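import Cfsg.Agent.Omega.OM.Delta.Main
import Cfsg.Agent.Omega.OM.KTwo.OddOrth

/-!
# The DELTA LEMMA for `O_{2n+1}(2)` and `Sp_{2n}(2)` (helper564 #15873 (D))

* `Dat.of_orth` : (R), from `OOrth C N r q B`, `Om` = the singular vectors;
* `Symp C N B` : `C` acts on `N` as `Sp_{2n}(2)`; `Symp.tra`; `Dat.of_symp` : (NR), `Om = N - 1`;
* `OOrth.two`, `Symp.two` : `a^⊥` has no subgroup of index 2 invariant under the stabiliser of `a`
  ((R): containing `a` and `r`).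
-/

set_option autoImplicit false
set_option linter.unusedSectionVars false

namespace Cfsg.Agent.Omega.OM.Delta

open Subgroup
open Cfsg.Agent.Omega.OM.KTwo (OOrth Tv)

universe u

variable {G : Type u} [Group G]

section orth

variable {C N : Subgroup G} {r : G} {q : G → ZMod 2} {B : G → G → ZMod 2} (O : OOrth C N r q B)

/-- the singular vectors -/
def omR (N : Subgroup G) (q : G → ZMod 2) : Set G := {u | u ∈ N ∧ u ≠ 1 ∧ q u = 0}

include O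

theorem frm_of_orth : Frm N r B where
  comm := O.comm
  sq := O.sq
  B_mul := O.B_mul
  symm := O.symm
  B_self := fun _ hx => O.B_self hx
  r_mem := O.r_mem
  B_r := O.B_r
  rad := O.rad

theorem Dat.of_orth {F : Subgroup G} {D : G → Subgroup G} (hbig : Big N r B) (hNF : N ≤ F)
    (hFc : ∀ x ∈ F, ∀ y ∈ F, x * y = y * x) (hFs : ∀ x ∈ F, x * x = 1) (hCF : ∀ c ∈ C, ∀ x ∈ F, c * x * c⁻¹ ∈ F)
    (hD : ∀ b ∈ omR N q, D b ≤ C) (hDc : ∀ b ∈ omR N q, ∀ g ∈ C, ∀ d ∈ D b, g * d * g⁻¹ ∈ D (g * b * g⁻¹))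
    (hDF : ∀ b ∈ omR N q, ∀ d ∈ D b, ∀ x ∈ F, d * x * d⁻¹ = x ∨ d * x * d⁻¹ = x * (b * r))
    (hDN : ∀ b ∈ omR N q, ∃ d ∈ D b, ∃ x ∈ N, d * x * d⁻¹ ≠ x)
    (hDZ : ∀ b ∈ omR N q, ∀ d ∈ D b, (∀ x ∈ N, d * x * d⁻¹ = x) → ∀ x ∈ F, d * x * d⁻¹ = x) :
    Dat C N F r (omR N q) B D where
  toFrm := frm_of_orth O
  N_le := hNF
  F_comm := hFc
  F_sq := hFs
  C_F := hCF
  C_N := O.nor
  C_Om := fun c hc b hb => ⟨O.nor c hc b hb.1, fun e => hb.2.1 (by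
    calc b = c⁻¹ * (c * b * c⁻¹) * c := by group
      _ = 1 := by rw [e]; group), by rw [O.q_conj c hc b hb.1, hb.2.2]⟩
  B_conj := fun _ hc _ hx _ hy => O.B_conj hc hx hy
  om_mem := fun _ hb => hb.1
  om_nr := fun b hb => ⟨hb.2.1, fun e => by
    have := hb.2.2
    rw [e, O.q_r] at this
    exact absurd this (by decide)⟩
  om_hyp := fun b hb b' hb' hB => by
    have hw := mul_mem hb.1 hb'.1
    refine ⟨mul_mem hw O.r_mem, fun e => ?_, ?_⟩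
    · have h1 : B (b * b' * r) b' = 1 := by
        rw [O.B_mul_r hw hb'.1, O.B_mul _ hb.1 _ hb'.1 _ hb'.1, hB, O.B_self hb'.1, add_zero]
      rw [e, O.B_one hb'.1] at h1
      exact absurd h1 (by decide)
    · rw [O.q_mul_r hw, O.q_mul _ hb.1 _ hb'.1, hb.2.2, hb'.2.2, hB]
      decide
  om_line := fun b hb b' hb' hB hne => by
    refine ⟨mul_mem hb.1 hb'.1, fun e => hne ?_, ?_⟩
    · calc b = b * (b' * b') := by rw [O.sq _ hb'.1, mul_one]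
        _ = b' := by rw [← mul_assoc, e, one_mul]
    · rw [O.q_mul _ hb.1 _ hb'.1, hb.2.2, hb'.2.2, hB]
      decide
  om_rep := fun x hx hn => by
    rcases zt (q x) with h | h
    · exact Or.inl ⟨hx, hn.1, h⟩
    · refine Or.inr ⟨mul_mem hx O.r_mem, fun e => hn.2 ?_, ?_⟩
      · calc x = x * (r * r) := by rw [O.sq r O.r_mem, mul_one]
          _ = r := by rw [← mul_assoc, e, one_mul]
      · rw [O.q_mul_r hx, h]
        decide
  om_uni := fun b hb hbr => by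
    have h1 := hbr.2.2
    rw [O.q_mul_r hb.1, hb.2.2] at h1
    exact absurd h1 (by decide)
  big := hbig
  D_le := hD
  D_conj := hDc
  D_F := hDF
  D_N := hDN
  D_cen := hDZ

/-- `a^⊥` has no subgroup of index 2 containing `a`, `r` and invariant under the stabiliser of `a` -/
theorem two_of_orth {a : G} (ha : a ∈ N) (hqa : q a = 0) {K : Subgroup G}
    (hKa : a ∈ K) (hKr : r ∈ K) (hKC : ∀ m ∈ C, m * a * m⁻¹ = a → ∀ x ∈ K, m * x * m⁻¹ ∈ K)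
    (hK2 : ∀ x ∈ N, ∀ y ∈ N, B x a = 0 → B y a = 0 → x ∉ K → y ∉ K → x * y ∈ K) :
    ∀ x ∈ N, B x a = 0 → x ∈ K := by
  -- all singular vectors of `a^⊥ - ⟨a⟩` or none
  by_cases hall : ∀ u ∈ N, q u = 0 → B u a = 0 → u ∈ K
  · intro x hx hxa
    obtain ⟨x', hx', hqx, hor, hBx⟩ := O.exists_sing hx
    have h1 := hall x' hx' hqx (by rw [hBx a ha, hxa])
    rcases hor with h | h
    · rwa [← h]
    · rw [h] at h1
      have := mul_mem h1 (inv_mem hKr)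
      rwa [mul_inv_cancel_right] at this
  exfalso
  push Not at hall
  obtain ⟨u, hu, hqu, hua, huK⟩ := hall
  have hu1 : u ≠ 1 := fun e => huK (by rw [e]; exact one_mem K)
  have hu0 : u ≠ a := fun e => huK (by rw [e]; exact hKa)
  have hnone : ∀ w ∈ N, q w = 0 → B w a = 0 → w ≠ 1 → w ≠ a → w ∉ K := by
    intro w hw hqw hwa hw1 hw0 hwK
    obtain ⟨g, hg, hg0, hgw⟩ := O.tra ha hqa hw hqw hu hqu (by rw [O.symm a ha w hw, hwa])
      (by rw [O.symm a ha u hu, hua]) hw1 hu1 hw0 hu0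
    apply huK
    rw [← hgw]
    exact hKC g hg hg0 w hwK
  obtain ⟨y, hy, hya, hyu⟩ := O.exists_perp ha hqa hu hqu hu1 hu0
  obtain ⟨w, hw, hqw, -, hBw⟩ := O.exists_sing hy
  have hwa : B w a = 0 := by rw [hBw a ha, hya]
  have hwu : B w u = 1 := by rw [hBw u hu, hyu]
  have hau : B a u = 0 := by rw [O.symm a ha u hu, hua]
  have hne : ∀ z ∈ N, B z u = 1 → z ≠ 1 ∧ z ≠ a := by
    intro z _ hzu
    refine ⟨fun e => ?_, fun e => ?_⟩
    · rw [e, O.B_one hu] at hzu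
      exact absurd hzu (by decide)
    · rw [e, hau] at hzu
      exact absurd hzu (by decide)
  have hwK := hnone w hw hqw hwa (hne w hw hwu).1 (hne w hw hwu).2
  have h1 := hK2 u hu w hw hua hwa huK hwK
  have huw := mul_mem hu hw
  have h2 : u * w * r ∈ K := mul_mem h1 hKr
  have h3 : B (u * w * r) u = 1 := by
    rw [O.B_mul_r huw hu, O.B_mul u hu w hw u hu, O.B_self hu, hwu, zero_add]
  have h4 := hne _ (mul_mem huw O.r_mem) h3
  refine hnone _ (mul_mem huw O.r_mem) ?_ ?_ h4.1 h4.2 h2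
  · rw [O.q_mul_r huw, O.q_mul u hu w hw, hqu, hqw, O.symm u hu w hw, hwu]
    decide
  · rw [O.B_mul_r huw ha, O.B_mul u hu w hw a ha, hua, hwa, add_zero]

end orth

/-- **`C` acts on `N` as `Sp_{2n}(2)`** (contains all transvections) -/
structure Symp (C N : Subgroup G) (B : G → G → ZMod 2) : Prop where
  nor : ∀ c ∈ C, ∀ x ∈ N, c * x * c⁻¹ ∈ N
  comm : ∀ x ∈ N, ∀ y ∈ N, x * y = y * x
  sq : ∀ x ∈ N, x * x = 1
  B_mul : ∀ x ∈ N, ∀ y ∈ N, ∀ w ∈ N, B (x * y) w = B x w + B y w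
  symm : ∀ x ∈ N, ∀ y ∈ N, B x y = B y x
  B_self : ∀ x ∈ N, B x x = 0
  B_conj : ∀ c ∈ C, ∀ x ∈ N, ∀ y ∈ N, B (c * x * c⁻¹) (c * y * c⁻¹) = B x y
  rad : ∀ x ∈ N, (∀ y ∈ N, B x y = 0) → x = 1
  tv : ∀ u ∈ N, u ≠ 1 → ∃ g ∈ C, Tv N 1 B u g

namespace Symp

variable {C N : Subgroup G} {B : G → G → ZMod 2} (O : Symp C N B)

/-- the nonzero vectors -/
def omN (N : Subgroup G) : Set G := {u | u ∈ N ∧ u ≠ 1}

include O

theorem frm : Frm N 1 B where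
  comm := O.comm
  sq := O.sq
  B_mul := O.B_mul
  symm := O.symm
  B_self := O.B_self
  r_mem := one_mem N
  B_r := fun x hx => by
    have h := O.B_mul 1 (one_mem N) 1 (one_mem N) x hx
    rw [mul_one] at h
    rw [O.symm x hx 1 (one_mem N)]
    exact (left_eq_add.1 h)
  rad := fun x hx h => Or.inl (O.rad x hx h)

theorem dat {F : Subgroup G} {D : G → Subgroup G} (hbig : Big N 1 B) (hNF : N ≤ F)
    (hFc : ∀ x ∈ F, ∀ y ∈ F, x * y = y * x) (hFs : ∀ x ∈ F, x * x = 1) (hCF : ∀ c ∈ C, ∀ x ∈ F, c * x * c⁻¹ ∈ F)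
    (hD : ∀ b ∈ omN N, D b ≤ C) (hDc : ∀ b ∈ omN N, ∀ g ∈ C, ∀ d ∈ D b, g * d * g⁻¹ ∈ D (g * b * g⁻¹))
    (hDF : ∀ b ∈ omN N, ∀ d ∈ D b, ∀ x ∈ F, d * x * d⁻¹ = x ∨ d * x * d⁻¹ = x * b)
    (hDN : ∀ b ∈ omN N, ∃ d ∈ D b, ∃ x ∈ N, d * x * d⁻¹ ≠ x)
    (hDZ : ∀ b ∈ omN N, ∀ d ∈ D b, (∀ x ∈ N, d * x * d⁻¹ = x) → ∀ x ∈ F, d * x * d⁻¹ = x) :
    Dat C N F 1 (omN N) B D where
  toFrm := O.frm
  N_le := hNF
  F_comm := hFc
  F_sq := hFs
  C_F := hCF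
  C_N := O.nor
  C_Om := fun c hc b hb => ⟨O.nor c hc b hb.1, fun e => hb.2 (by
    calc b = c⁻¹ * (c * b * c⁻¹) * c := by group
      _ = 1 := by rw [e]; group)⟩
  B_conj := O.B_conj
  om_mem := fun _ hb => hb.1
  om_nr := fun b hb => ⟨hb.2, hb.2⟩
  om_hyp := fun b hb b' hb' hB => by
    rw [mul_one]
    refine ⟨mul_mem hb.1 hb'.1, fun e => ?_⟩
    have h1 : b = b' := by
      calc b = b * (b' * b') := by rw [O.sq _ hb'.1, mul_one]
        _ = b' := by rw [← mul_assoc, e, one_mul]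
    rw [h1, O.B_self b' hb'.1] at hB
    exact absurd hB (by decide)
  om_line := fun b hb b' hb' _ hne => by
    refine ⟨mul_mem hb.1 hb'.1, fun e => hne ?_⟩
    calc b = b * (b' * b') := by rw [O.sq _ hb'.1, mul_one]
      _ = b' := by rw [← mul_assoc, e, one_mul]
  om_rep := fun x hx hn => Or.inl ⟨hx, hn.1⟩
  om_uni := fun _ _ _ => rfl
  big := hbig
  D_le := hD
  D_conj := hDc
  D_F := fun b hb d hd x hx => by rw [mul_one]; exact hDF b hb d hd x hx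
  D_N := hDN
  D_cen := hDZ

/-- two vectors `u, u'` with `B u u' = 1` of `u₀^⊥` are conjugate under `C(u₀)` -/
theorem conj_of_one {u₀ u u' : G} (h0 : u₀ ∈ N) (hu : u ∈ N) (hu' : u' ∈ N)
    (hB0 : B u₀ u = 0) (hB0' : B u₀ u' = 0) (hB : B u u' = 1) :
    ∃ g ∈ C, g * u₀ * g⁻¹ = u₀ ∧ g * u * g⁻¹ = u' := by
  have hF := O.frm
  have hw : u * u' ∈ N := mul_mem hu hu'
  have hBw : ∀ x ∈ N, B x (u * u') = B x u + B x u' := fun x hx => hF.B_mul' hu hu' hx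
  have hw1 : u * u' ≠ 1 := fun e => by
    have h1 := hBw u hu
    rw [e, hF.B_one' hu, O.B_self u hu, hB] at h1
    exact absurd h1 (by decide)
  obtain ⟨g, hg, ht⟩ := O.tv _ hw hw1
  refine ⟨g, hg, (ht u₀ h0).1 ?_, ?_⟩
  · rw [hBw u₀ h0, hB0, hB0', add_zero]
  · rw [(ht u hu).2 (by rw [hBw u hu, O.B_self u hu, hB, zero_add]), mul_one, ← mul_assoc, O.sq u hu, one_mul]

/-- **the stabiliser of `u₀` is transitive on `u₀^⊥ - ⟨u₀⟩`** -/
theorem tra {u₀ u u' : G} (h0 : u₀ ∈ N) (hu : u ∈ N) (hu' : u' ∈ N) (hB0 : B u₀ u = 0) (hB0' : B u₀ u' = 0)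
    (hu1 : u ≠ 1) (hu1' : u' ≠ 1) (hu0 : u ≠ u₀) (hu0' : u' ≠ u₀) :
    ∃ g ∈ C, g * u₀ * g⁻¹ = u₀ ∧ g * u * g⁻¹ = u' := by
  have hF := O.frm
  obtain ⟨x, hx, hx0, hx1, hx1'⟩ := hF.exists_link h0 hu hu' hu1 hu1 hu0 (by rw [mul_one]; exact hu0) hu1' hu1'
    hu0' (by rw [mul_one]; exact hu0')
  obtain ⟨g, hg, hg0, hgx⟩ := O.conj_of_one h0 hu hx hB0 (by rw [O.symm _ h0 _ hx, hx0])
    (by rw [O.symm _ hu _ hx, hx1])
  obtain ⟨g', hg', hg0', hgx'⟩ := O.conj_of_one h0 hx hu' (by rw [O.symm _ h0 _ hx, hx0]) hB0' hx1'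
  refine ⟨g' * g, mul_mem hg' hg, ?_, ?_⟩
  · calc g' * g * u₀ * (g' * g)⁻¹ = g' * (g * u₀ * g⁻¹) * g'⁻¹ := by group
      _ = u₀ := by rw [hg0, hg0']
  · calc g' * g * u * (g' * g)⁻¹ = g' * (g * u * g⁻¹) * g'⁻¹ := by group
      _ = u' := by rw [hgx, hgx']

/-- `a^⊥` has no subgroup of index 2 invariant under the stabiliser of `a` -/
theorem two (hbig : Big N 1 B) {a : G} (ha : a ∈ N) (ha1 : a ≠ 1) {K : Subgroup G}
    (hKC : ∀ m ∈ C, m * a * m⁻¹ = a → ∀ x ∈ K, m * x * m⁻¹ ∈ K)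
    (hK2 : ∀ x ∈ N, ∀ y ∈ N, B x a = 0 → B y a = 0 → x ∉ K → y ∉ K → x * y ∈ K) :
    ∀ x ∈ N, B x a = 0 → x ∈ K := by
  have hF := O.frm
  obtain ⟨u, hu, hua, nu, nua⟩ := hbig a ha ⟨ha1, ha1⟩
  have hne := hF.nr_mul_ne ha nua
  have key : ∀ w ∈ N, B w a = 0 → w ≠ 1 → w ≠ a → ∀ w' ∈ N, B w' a = 0 → w' ≠ 1 → w' ≠ a → w ∈ K → w' ∈ K := by
    intro w hw hwa hw1 hw0 w' hw' hwa' hw1' hw0' hwK
    obtain ⟨g, hg, hg0, hgw⟩ := O.tra ha hw hw' (by rw [O.symm a ha w hw, hwa]) (by rw [O.symm a ha w' hw', hwa'])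
      hw1 hw1' hw0 hw0'
    rw [← hgw]
    exact hKC g hg hg0 w hwK
  by_cases huK : u ∈ K
  · have h1 : ∀ x ∈ N, B x a = 0 → x ≠ 1 → x ≠ a → x ∈ K := fun x hx hxa hx1 hx0 =>
      key u hu hua nu.1 hne.1 x hx hxa hx1 hx0 huK
    intro x hx hxa
    by_cases hx1 : x = 1
    · rw [hx1]; exact one_mem K
    by_cases hx0 : x = a
    · have h2 : u * a ∈ K := h1 _ (mul_mem hu ha) (by rw [O.B_mul u hu a ha a ha, hua, O.B_self a ha, add_zero])
        nua.1 (fun e => nu.1 (mul_eq_right.1 e))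
      have h3 := mul_mem (inv_mem huK) h2
      rw [inv_mul_cancel_left] at h3
      rwa [hx0]
    · exact h1 x hx hxa hx1 hx0
  exfalso
  obtain ⟨w, hw, hwa, hwu, -⟩ := hF.exists_link ha hu hu nu.1 nu.2 hne.1 hne.2 nu.1 nu.2 hne.1 hne.2
  have hau : B a u = 0 := by rw [O.symm a ha u hu, hua]
  have hn : ∀ z ∈ N, B z u = 1 → z ≠ 1 ∧ z ≠ a := by
    intro z _ hzu
    refine ⟨fun e => ?_, fun e => ?_⟩
    · rw [e, hF.B_one hu] at hzu
      exact absurd hzu (by decide)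
    · rw [e, hau] at hzu
      exact absurd hzu (by decide)
  have hwK : w ∉ K := fun h1 => huK (key w hw hwa (hn w hw hwu).1 (hn w hw hwu).2 u hu hua nu.1 hne.1 h1)
  have h1 := hK2 u hu w hw hua hwa huK hwK
  have huw := mul_mem hu hw
  have h3 : B (u * w) u = 1 := by rw [O.B_mul u hu w hw u hu, O.B_self u hu, hwu, zero_add]
  have h4 := hn _ huw h3
  exact huK (key _ huw (by rw [O.B_mul u hu w hw a ha, hua, hwa, add_zero]) h4.1 h4.2 u hu hua nu.1 hne.1 h1)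

end Symp

end Cfsg.Agent.Omega.OM.Delta
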