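import Mathlib

/-!
# Symplectic form on an elementary abelian subgroup, radical `⟨r⟩` (for the DELTA LEMMA, helper564 #15873)

* `Frm N r B` : `N` elementary abelian, `B` an alternating form on `N` with radical `⟨r⟩` (`r = 1` allowed);
* `Frm.dual` : every additive function on `N` killing `r` is `B n`;
* `Frm.const` : a function `ψ` with `ψ (x y) = ψ x + ψ y` whenever `B x y = 1` satisfies
  `ψ (x y) = ψ x + ψ y + κ` for a constant `κ`, for all `x ≠ y` orthogonal (`dim N / ⟨r⟩ ≥ 4`).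
-/

set_option autoImplicit false
set_option linter.unusedSectionVars false

namespace Cfsg.Agent.Omega.OM.Delta

open Subgroup

variable {G : Type*} [Group G]

theorem zt (a : ZMod 2) : a = 0 ∨ a = 1 := by
  revert a
  decide

theorem zt_add_self (a : ZMod 2) : a + a = 0 := by
  revert a
  decide

structure Frm (N : Subgroup G) (r : G) (B : G → G → ZMod 2) : Prop where
  comm : ∀ x ∈ N, ∀ y ∈ N, x * y = y * x
  sq : ∀ x ∈ N, x * x = 1
  B_mul : ∀ x ∈ N, ∀ y ∈ N, ∀ w ∈ N, B (x * y) w = B x w + B y w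
  symm : ∀ x ∈ N, ∀ y ∈ N, B x y = B y x
  B_self : ∀ x ∈ N, B x x = 0
  r_mem : r ∈ N
  B_r : ∀ x ∈ N, B x r = 0
  rad : ∀ x ∈ N, (∀ y ∈ N, B x y = 0) → x = 1 ∨ x = r

namespace Frm

variable {N : Subgroup G} {r : G} {B : G → G → ZMod 2} (O : Frm N r B)

include O

theorem B_mul' {x y w : G} (hx : x ∈ N) (hy : y ∈ N) (hw : w ∈ N) : B w (x * y) = B w x + B w y := by
  rw [O.symm w hw _ (mul_mem hx hy), O.B_mul x hx y hy w hw, O.symm x hx w hw, O.symm y hy w hw]

theorem B_one {x : G} (hx : x ∈ N) : B 1 x = 0 := by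
  have h := O.B_mul 1 (one_mem N) 1 (one_mem N) x hx
  rw [mul_one] at h
  exact (left_eq_add.1 h)

theorem B_one' {x : G} (hx : x ∈ N) : B x 1 = 0 := by rw [O.symm x hx 1 (one_mem N), O.B_one hx]

theorem B_r' {x : G} (hx : x ∈ N) : B r x = 0 := by rw [O.symm r O.r_mem x hx, O.B_r x hx]

theorem inv_eq {x : G} (hx : x ∈ N) : x⁻¹ = x := inv_eq_of_mul_eq_one_left (O.sq x hx)

theorem rr : r * r = 1 := O.sq r O.r_mem

theorem B_mul_r {x y : G} (hx : x ∈ N) (hy : y ∈ N) : B (x * r) y = B x y := by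
  rw [O.B_mul x hx r O.r_mem y hy, O.B_r' hy, add_zero]

theorem B_mul_r' {x y : G} (hx : x ∈ N) (hy : y ∈ N) : B x (y * r) = B x y := by
  rw [O.B_mul' hy O.r_mem hx, O.B_r x hx, add_zero]

/-- `B(·, y)` vanishing on `u^⊥` is `0` or `B(·, u)` -/
theorem eq_of_perp {u y : G} (hu : u ∈ N) (hy : y ∈ N) (h : ∀ x ∈ N, B x u = 0 → B x y = 0) :
    y = 1 ∨ y = r ∨ y = u ∨ y = u * r := by
  by_cases h1 : ∀ x ∈ N, B x y = 0
  · rcases O.rad y hy fun x hx => (O.symm y hy x hx).trans (h1 x hx) with h2 | h2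
    · exact Or.inl h2
    · exact Or.inr (Or.inl h2)
  push Not at h1
  obtain ⟨a, ha, ha1⟩ := h1
  have ha2 : B a y = 1 := (zt _).resolve_left ha1
  have ha3 : B a u = 1 := (zt _).resolve_left fun h3 => ha1 (h a ha h3)
  have h2 : ∀ x ∈ N, B (u * y) x = 0 := by
    intro x hx
    rw [O.B_mul u hu y hy x hx, O.symm u hu x hx, O.symm y hy x hx]
    rcases zt (B x u) with h3 | h3
    · rw [h3, h x hx h3, add_zero]
    · have h4 : B (x * a) u = 0 := by
        rw [O.B_mul x hx a ha u hu, h3, ha3]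
        decide
      have h5 := h _ (mul_mem hx ha) h4
      rw [O.B_mul x hx a ha y hy, ha2] at h5
      rw [h3]
      rcases zt (B x y) with h6 | h6
      · rw [h6] at h5
        exact absurd h5 (by decide)
      · rw [h6]
        decide
  have e : y = u * (u * y) := by rw [← mul_assoc, O.sq u hu, one_mul]
  rcases O.rad _ (mul_mem hu hy) h2 with h3 | h3
  · right; right; left
    rw [e, h3, mul_one]
  · right; right; right
    rw [e, h3]

theorem exists_B {u : G} (hu : u ∈ N) (hu1 : u ≠ 1) (hur : u ≠ r) : ∃ y ∈ N, B y u = 1 := by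
  by_contra hcon
  push Not at hcon
  rcases O.rad u hu fun y hy => (O.symm u hu y hy).trans ((zt _).resolve_right (hcon y hy)) with h | h
  · exact hu1 h
  · exact hur h

/-- **duality** -/
theorem dual [Finite N] (ψ : G → ZMod 2) (hψ : ∀ x ∈ N, ∀ y ∈ N, ψ (x * y) = ψ x + ψ y) (hr : ψ r = 0) :
    ∃ n ∈ N, ∀ x ∈ N, ψ x = B n x := by
  classical
  have := Fintype.ofFinite N
  -- the signs
  let s : ZMod 2 → ℤ := fun a => if a = 0 then 1 else -1
  have s_add : ∀ a b : ZMod 2, s (a + b) = s a * s b := by decide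
  have s_zero : ∀ a : ZMod 2, s a = 1 → a = 0 := by decide
  have s0 : s 0 = 1 := by decide
  -- the sum of the signs of a nonzero additive function is `0`
  have hsum : ∀ f : G → ZMod 2, (∀ x ∈ N, ∀ y ∈ N, f (x * y) = f x + f y) →
      (∑ x : N, s (f x)) = 0 ∨ ∀ x ∈ N, f x = 0 := by
    intro f hf
    by_cases h : ∀ x ∈ N, f x = 0
    · exact Or.inr h
    left
    push Not at h
    obtain ⟨y, hy, hfy⟩ := h
    have h1 : (∑ x : N, s (f x)) = ∑ x : N, s (f (x * ⟨y, hy⟩ : N)) :=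
      (Equiv.sum_comp (Equiv.mulRight (⟨y, hy⟩ : N)) fun x : N => s (f x)).symm
    have h2 : ∀ x : N, s (f (x * ⟨y, hy⟩ : N)) = - s (f x) := by
      intro x
      rw [coe_mul, hf _ x.2 _ hy, s_add]
      have : s (f y) = -1 := by
        have := (zt (f y)).resolve_left hfy
        rw [this]
        decide
      show s (f x) * s (f y) = _
      rw [this]
      ring
    have h3 : (∑ x : N, s (f (x * ⟨y, hy⟩ : N))) = - ∑ x : N, s (f x) := by
      rw [← Finset.sum_neg_distrib]
      exact Finset.sum_congr rfl fun x _ => h2 x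
    rw [h3] at h1
    omega
  -- one of the sums is `≠ 0`
  by_contra hcon
  push Not at hcon
  have hz : ∀ n : N, (∑ x : N, s (ψ x + B n x)) = 0 := by
    intro n
    refine (hsum (fun x => ψ x + B n x) ?_).resolve_right ?_
    · intro x hx y hy
      show ψ (x * y) + B n (x * y) = _
      rw [hψ x hx y hy, O.B_mul' hx hy n.2]
      ring
    · intro h
      obtain ⟨x, hx, hne⟩ := hcon n n.2
      apply hne
      have h1 : ψ x + B n x = 0 := h x hx
      calc ψ x = ψ x + (B n x + B n x) := by rw [zt_add_self, add_zero]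
        _ = B n x := by rw [← add_assoc, h1, zero_add]
  have hz2 : (∑ n : N, ∑ x : N, s (ψ x + B n x)) = 0 := Finset.sum_eq_zero fun n _ => hz n
  rw [Finset.sum_comm] at hz2
  have hx : ∀ x : N, 0 ≤ ∑ n : N, s (ψ x + B n x) := by
    intro x
    rcases hsum (fun n => B n x) (fun a ha b hb => O.B_mul a ha b hb x x.2) with h | h
    · have h1 : (∑ n : N, s (ψ x + B n x)) = s (ψ x) * ∑ n : N, s (B n x) := by
        rw [Finset.mul_sum]
        exact Finset.sum_congr rfl fun n _ => s_add _ _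
      rw [h1]
      have h2 : (∑ n : N, s (B n x)) = 0 := h
      rw [h2, mul_zero]
    · have h1 : ψ x = 0 := by
        rcases O.rad x x.2 fun y hy => (O.symm _ x.2 y hy).trans (h y hy) with h2 | h2
        · have := hψ 1 (one_mem N) 1 (one_mem N)
          rw [mul_one] at this
          rw [h2]
          exact left_eq_add.1 this
        · rw [h2, hr]
      apply Finset.sum_nonneg
      intro n _
      have h2 : B n x = 0 := h n n.2
      rw [h1, h2, add_zero, s0]
      norm_num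
  have h1 : (0 : ℤ) < ∑ x : N, ∑ n : N, s (ψ x + B n x) := by
    apply Finset.sum_pos'
    · exact fun x _ => hx x
    · refine ⟨1, Finset.mem_univ _, ?_⟩
      have h2 : ∀ n : N, s (ψ ((1 : N) : G) + B n ((1 : N) : G)) = 1 := by
        intro n
        have h3 : ψ ((1 : N) : G) = 0 := by
          have := hψ 1 (one_mem N) 1 (one_mem N)
          rw [mul_one] at this
          exact left_eq_add.1 this
        have h4 : B n ((1 : N) : G) = 0 := O.B_one' n.2
        rw [h3, h4, add_zero, s0]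
      rw [Finset.sum_congr rfl fun n _ => h2 n]
      simp [Fintype.card_pos]
  omega

/-- a common non-orthogonal vector in `v^⊥` -/
theorem exists_link {v x y : G} (hv : v ∈ N) (hx : x ∈ N) (hy : y ∈ N)
    (hx1 : x ≠ 1) (hxr : x ≠ r) (hxv : x ≠ v) (hxvr : x ≠ v * r)
    (hy1 : y ≠ 1) (hyr : y ≠ r) (hyv : y ≠ v) (hyvr : y ≠ v * r) :
    ∃ w ∈ N, B w v = 0 ∧ B w x = 1 ∧ B w y = 1 := by
  obtain ⟨a, ha, ha0, ha1⟩ : ∃ a ∈ N, B a v = 0 ∧ B a x = 1 := by
    by_contra hcon
    push Not at hcon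
    rcases O.eq_of_perp hv hx fun w hw hw0 => (zt _).resolve_right (hcon w hw hw0) with h | h | h | h
    · exact hx1 h
    · exact hxr h
    · exact hxv h
    · exact hxvr h
  obtain ⟨b, hb, hb0, hb1⟩ : ∃ b ∈ N, B b v = 0 ∧ B b y = 1 := by
    by_contra hcon
    push Not at hcon
    rcases O.eq_of_perp hv hy fun w hw hw0 => (zt _).resolve_right (hcon w hw hw0) with h | h | h | h
    · exact hy1 h
    · exact hyr h
    · exact hyv h
    · exact hyvr h
  rcases zt (B a y) with h | h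
  · rcases zt (B b x) with h' | h'
    · refine ⟨a * b, mul_mem ha hb, ?_, ?_, ?_⟩
      · rw [O.B_mul a ha b hb _ hv, ha0, hb0, add_zero]
      · rw [O.B_mul a ha b hb _ hx, ha1, h', add_zero]
      · rw [O.B_mul a ha b hb _ hy, h, hb1, zero_add]
    · exact ⟨b, hb, hb0, h', hb1⟩
  · exact ⟨a, ha, ha0, ha1, h⟩

end Frm

/-- `ψ (x y) = ψ x + ψ y` for `B x y = 1` -/
structure Hyp (N : Subgroup G) (r : G) (B : G → G → ZMod 2) (ψ : G → ZMod 2) : Prop where
  one : ψ 1 = 0
  mul_r : ∀ x ∈ N, ψ (x * r) = ψ x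
  add : ∀ x ∈ N, ∀ y ∈ N, B x y = 1 → ψ (x * y) = ψ x + ψ y

/-- `x` is not in the radical -/
def NR (r x : G) : Prop := x ≠ 1 ∧ x ≠ r

/-- `ψ (x y) = ψ x + ψ y + κ` for the good orthogonal pairs -/
def Cst (N : Subgroup G) (r : G) (B : G → G → ZMod 2) (ψ : G → ZMod 2) (κ : ZMod 2) : Prop :=
  ∀ x ∈ N, ∀ y ∈ N, NR r x → NR r y → NR r (x * y) → B x y = 0 → ψ x + ψ y + ψ (x * y) = κ

/-- `dim N / ⟨r⟩ ≥ 4` -/
def Big (N : Subgroup G) (r : G) (B : G → G → ZMod 2) : Prop :=
  ∀ y ∈ N, NR r y → ∃ u ∈ N, B u y = 0 ∧ NR r u ∧ NR r (u * y)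

namespace Frm

variable {N : Subgroup G} {r : G} {B : G → G → ZMod 2} (O : Frm N r B)

include O

theorem nr_mul_ne {x y : G} (hy : y ∈ N) (h : NR r (x * y)) : x ≠ y ∧ x ≠ y * r := by
  refine ⟨fun e => h.1 ?_, fun e => h.2 ?_⟩
  · rw [e, O.sq y hy]
  · rw [e, mul_assoc, O.comm r O.r_mem y hy, ← mul_assoc, O.sq y hy, one_mul]

theorem stepA {ψ : G → ZMod 2} (h : Hyp N r B ψ) {x x' y : G} (hx : x ∈ N) (hx' : x' ∈ N) (hy : y ∈ N)
    (hxy : B x y = 0) (hxy' : B x' y = 0) (hxx : B x x' = 1) :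
    ψ x + ψ y + ψ (x * y) = ψ x' + ψ y + ψ (x' * y) := by
  have hw : x * x' ∈ N := mul_mem hx hx'
  have e1 : x * (x * x') = x' := by rw [← mul_assoc, O.sq x hx, one_mul]
  have e2 : x * y * (x * x') = x' * y := by
    rw [O.comm x hx y hy, mul_assoc, e1, O.comm y hy x' hx']
  have h1 := h.add x hx _ hw (by rw [O.B_mul' hx hx' hx, O.B_self x hx, hxx, zero_add])
  have h2 := h.add (x * y) (mul_mem hx hy) _ hw (by
    rw [O.B_mul x hx y hy _ hw, O.B_mul' hx hx' hx, O.B_self x hx, hxx, O.B_mul' hx hx' hy,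
      O.symm y hy x hx, O.symm y hy x' hx', hxy, hxy']
    decide)
  rw [e1] at h1
  rw [e2] at h2
  rw [h1, h2]
  generalize ψ x = a, ψ y = b, ψ (x * y) = c, ψ (x * x') = d
  revert a b c d
  decide

theorem stepB {ψ : G → ZMod 2} (h : Hyp N r B ψ) {x x' y : G} (hx : x ∈ N) (hx' : x' ∈ N) (hy : y ∈ N)
    (nx : NR r x) (nx' : NR r x') (nxy : NR r (x * y)) (nxy' : NR r (x' * y))
    (hxy : B x y = 0) (hxy' : B x' y = 0) :
    ψ x + ψ y + ψ (x * y) = ψ x' + ψ y + ψ (x' * y) := by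
  have h1 := O.nr_mul_ne hy nxy
  have h2 := O.nr_mul_ne hy nxy'
  obtain ⟨w, hw, hwy, hwx, hwx'⟩ := O.exists_link hy hx hx' nx.1 nx.2 h1.1 h1.2 nx'.1 nx'.2 h2.1 h2.2
  rw [O.stepA h hx hw hy hxy hwy (by rw [O.symm x hx w hw, hwx]),
    ← O.stepA h hx' hw hy hxy' hwy (by rw [O.symm x' hx' w hw, hwx'])]

theorem const (hbig : Big N r B) {ψ : G → ZMod 2} (h : Hyp N r B ψ) : ∃ κ, Cst N r B ψ κ := by
  have key : ∀ x ∈ N, ∀ y ∈ N, NR r x → NR r y → NR r (x * y) → B x y = 0 →
      ∀ x' ∈ N, ∀ y' ∈ N, NR r x' → NR r y' → NR r (x' * y') → B x' y' = 0 →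
      ψ x + ψ y + ψ (x * y) = ψ x' + ψ y' + ψ (x' * y') := by
    intro x hx y hy nx ny nxy hxy x' hx' y' hy' nx' ny' nxy' hxy'
    have sym : ∀ a ∈ N, ∀ b ∈ N, ψ a + ψ b + ψ (a * b) = ψ b + ψ a + ψ (b * a) := by
      intro a ha b hb
      rw [O.comm a ha b hb, add_comm (ψ a)]
    rcases zt (B y y') with hB | hB
    · by_cases e : y' = y
      · subst e
        exact O.stepB h hx hx' hy nx nx' nxy nxy' hxy hxy'
      by_cases e' : y' = y * r
      · subst e'
        have e1 : x' * (y * r) = x' * y * r := by group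
        have nxy'' : NR r (x' * y) := by
          rw [e1] at nxy'
          refine ⟨fun e2 => nxy'.2 (by rw [e2, one_mul]), fun e2 => nxy'.1 (by rw [e2, O.rr])⟩
        rw [h.mul_r y hy, e1, h.mul_r _ (mul_mem hx' hy)]
        exact O.stepB h hx hx' hy nx nx' nxy nxy'' hxy (by rw [← O.B_mul_r' hx' hy, hxy'])
      have nyy : NR r (y * y') := by
        refine ⟨fun e2 => e ?_, fun e2 => e' ?_⟩
        · calc y' = y * y * y' := by rw [O.sq y hy, one_mul]
            _ = y := by rw [mul_assoc, e2, mul_one]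
        · calc y' = y * y * y' := by rw [O.sq y hy, one_mul]
            _ = y * r := by rw [mul_assoc, e2]
      have nyy' : NR r (y' * y) := by rw [O.comm y' hy' y hy]; exact nyy
      rw [O.stepB h hx hy' hy nx ny' nxy nyy' hxy (by rw [O.symm y' hy' y hy, hB]), sym y' hy' y hy,
        O.stepB h hy hx' hy' ny nx' nyy nxy' hB hxy']
    · -- a common orthogonal vector
      obtain ⟨u, hu, huy, huy', nu⟩ : ∃ u ∈ N, B u y = 0 ∧ B u y' = 0 ∧ NR r u := by
        obtain ⟨u, hu, huy, nu, nuy⟩ := hbig y hy ny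
        rcases zt (B u y') with h1 | h1
        · exact ⟨u, hu, huy, h1, nu⟩
        · refine ⟨u * y, mul_mem hu hy, ?_, ?_, nuy⟩
          · rw [O.B_mul u hu y hy y hy, huy, O.B_self y hy, add_zero]
          · rw [O.B_mul u hu y hy y' hy', h1, hB]
            decide
      have hne : ∀ a ∈ N, ∀ b ∈ N, B u a = 0 → B a b = 1 → B u b = 0 → NR r (u * a) := by
        intro a ha b hb hua hab hub
        refine ⟨fun e => ?_, fun e => ?_⟩
        · have e1 : u = a := by
            calc u = u * (a * a) := by rw [O.sq a ha, mul_one]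
              _ = a := by rw [← mul_assoc, e, one_mul]
          rw [e1, hab] at hub
          exact absurd hub (by decide)
        · have e1 : u = a * r := by
            calc u = u * (a * a) := by rw [O.sq a ha, mul_one]
              _ = r * a := by rw [← mul_assoc, e]
              _ = a * r := O.comm _ O.r_mem _ ha
          rw [e1, O.B_mul_r ha hb, hab] at hub
          exact absurd hub (by decide)
      have n1 : NR r (u * y) := hne y hy y' hy' huy hB huy'
      have n2 : NR r (u * y') := hne y' hy' y hy huy' (by rw [O.symm y' hy' y hy, hB]) huy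
      have n1' : NR r (y * u) := by rw [O.comm y hy u hu]; exact n1
      have n2' : NR r (y' * u) := by rw [O.comm y' hy' u hu]; exact n2
      rw [O.stepB h hx hu hy nx nu nxy n1 hxy huy, sym u hu y hy,
        O.stepB h hy hy' hu ny ny' n1' n2' (by rw [O.symm y hy u hu, huy]) (by rw [O.symm y' hy' u hu, huy']),
        sym y' hy' u hu, O.stepB h hu hx' hy' nu nx' n2 nxy' huy' hxy']
  by_cases hex : ∃ x ∈ N, ∃ y ∈ N, NR r x ∧ NR r y ∧ NR r (x * y) ∧ B x y = 0
  · obtain ⟨x, hx, y, hy, nx, ny, nxy, hxy⟩ := hex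
    exact ⟨ψ x + ψ y + ψ (x * y), fun x' hx' y' hy' nx' ny' nxy' hxy' =>
      key x' hx' y' hy' nx' ny' nxy' hxy' x hx y hy nx ny nxy hxy⟩
  · exact ⟨0, fun x' hx' y' hy' nx' ny' nxy' hxy' => absurd ⟨x', hx', y', hy', nx', ny', nxy', hxy'⟩ hex⟩

/-- `κ = 0` : `ψ` is additive -/
theorem add_of_cst {ψ : G → ZMod 2} (h : Hyp N r B ψ) (hc : Cst N r B ψ 0) :
    ∀ x ∈ N, ∀ y ∈ N, ψ (x * y) = ψ x + ψ y := by
  have hr : ψ r = 0 := by
    have := h.mul_r 1 (one_mem N)
    rwa [one_mul, h.one] at this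
  intro x hx y hy
  rcases zt (B x y) with hB | hB
  · by_cases h1 : x = 1
    · rw [h1, one_mul, h.one, zero_add]
    by_cases h2 : x = r
    · rw [h2, hr, O.comm r O.r_mem y hy, h.mul_r y hy, zero_add]
    by_cases h3 : y = 1
    · rw [h3, mul_one, h.one, add_zero]
    by_cases h4 : y = r
    · rw [h4, hr, h.mul_r x hx, add_zero]
    by_cases h5 : x * y = 1
    · have e : x = y := by
        calc x = x * (y * y) := by rw [O.sq y hy, mul_one]
          _ = y := by rw [← mul_assoc, h5, one_mul]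
      rw [h5, h.one, e, zt_add_self]
    by_cases h6 : x * y = r
    · have e : x = y * r := by
        calc x = x * (y * y) := by rw [O.sq y hy, mul_one]
          _ = r * y := by rw [← mul_assoc, h6]
          _ = y * r := O.comm _ O.r_mem _ hy
      rw [h6, hr, e, h.mul_r y hy, zt_add_self]
    have h7 := hc x hx y hy ⟨h1, h2⟩ ⟨h3, h4⟩ ⟨h5, h6⟩ hB
    calc ψ (x * y) = (ψ x + ψ y + ψ (x * y)) + (ψ x + ψ y) := by
          generalize ψ x = a, ψ y = b, ψ (x * y) = c
          revert a b c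
          decide
      _ = ψ x + ψ y := by rw [h7, zero_add]
  · exact h.add x hx y hy hB

end Frm

end Cfsg.Agent.Omega.OM.Delta
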