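import Cfsg.Agent.Omega.OM.Delta.Form

/-!
# The DELTA LEMMA (helper564 #15873 (D) (1), (2); `blueprints/OMEGA-NO3S-II-helper564.md`), abstract form

`C` acts on the elementary abelian group `F ≥ N`, `B` is the form of `N` with radical `⟨r⟩` (`r = 1` in case (NR)),
`Om` is the set of points of `N` ((R): the singular vectors, (NR): `N - 1`), `D b ≤ C` (`b ∈ Om`) acts on `F` as ONE
transvection with centre `b r`, nontrivially on `N`.

* `Dat.exists_mul` : (1) `|F : N Δ| ≤ 2`, `Δ = Dl F Om D = C_F(⟨D b⟩)`;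
* `Dat.exists_conj` : `E = ⟨D b⟩` is transitive on `Om`; `Dat.conj_mem` : it centralises `F / N`;
* `HDat` : the subgroups `H b` (`b ∈ Om`) with `F = N ⟨H b⟩`, no invariant subgroup of index 2;
* `HDat.sup` : `F = N (H b)` for every `b`; `HDat.rep` : `F = N Δ`; `HDat.mem` : `H b ≤ ⟨b⟩ Δ`;
* **`HDat.mem_iff`** ((R)) : `H b = ⟨b⟩ Δ` for every `b ∈ Om`, `HDat.Dl_le` : `Δ ≤ H b`;
* **`HDat.eq`** ((NR)) : `H b = Δ` for every `b ∈ Om`.
-/

set_option autoImplicit false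
set_option linter.unusedSectionVars false

namespace Cfsg.Agent.Omega.OM.Delta

open Subgroup

variable {G : Type*} [Group G]

/-- the data of the DELTA LEMMA -/
structure Dat (C N F : Subgroup G) (r : G) (Om : Set G) (B : G → G → ZMod 2) (D : G → Subgroup G) : Prop
    extends Frm N r B where
  N_le : N ≤ F
  F_comm : ∀ x ∈ F, ∀ y ∈ F, x * y = y * x
  F_sq : ∀ x ∈ F, x * x = 1
  C_F : ∀ c ∈ C, ∀ x ∈ F, c * x * c⁻¹ ∈ F
  C_N : ∀ c ∈ C, ∀ x ∈ N, c * x * c⁻¹ ∈ N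
  C_Om : ∀ c ∈ C, ∀ b ∈ Om, c * b * c⁻¹ ∈ Om
  B_conj : ∀ c ∈ C, ∀ x ∈ N, ∀ y ∈ N, B (c * x * c⁻¹) (c * y * c⁻¹) = B x y
  om_mem : ∀ b ∈ Om, b ∈ N
  om_nr : ∀ b ∈ Om, NR r b
  om_hyp : ∀ b ∈ Om, ∀ b' ∈ Om, B b b' = 1 → b * b' * r ∈ Om
  om_line : ∀ b ∈ Om, ∀ b' ∈ Om, B b b' = 0 → b ≠ b' → b * b' ∈ Om
  om_rep : ∀ x ∈ N, NR r x → x ∈ Om ∨ x * r ∈ Om
  om_uni : ∀ b ∈ Om, b * r ∈ Om → r = 1
  big : Big N r B
  D_le : ∀ b ∈ Om, D b ≤ C
  D_conj : ∀ b ∈ Om, ∀ g ∈ C, ∀ d ∈ D b, g * d * g⁻¹ ∈ D (g * b * g⁻¹)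
  D_F : ∀ b ∈ Om, ∀ d ∈ D b, ∀ x ∈ F, d * x * d⁻¹ = x ∨ d * x * d⁻¹ = x * (b * r)
  D_N : ∀ b ∈ Om, ∃ d ∈ D b, ∃ x ∈ N, d * x * d⁻¹ ≠ x
  D_cen : ∀ b ∈ Om, ∀ d ∈ D b, (∀ x ∈ N, d * x * d⁻¹ = x) → ∀ x ∈ F, d * x * d⁻¹ = x

/-- the functional of `D b` -/
noncomputable def fb (D : G → Subgroup G) (b x : G) : ZMod 2 :=
  open Classical in if ∀ d ∈ D b, d * x * d⁻¹ = x then 0 else 1

/-- `t ∈ D b` acts on `N` as the transvection with centre `b r` -/
structure Mov (N : Subgroup G) (r : G) (B : G → G → ZMod 2) (D : G → Subgroup G) (b t : G) : Prop where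
  mem : t ∈ D b
  zero : ∀ x ∈ N, B x b = 0 → t * x * t⁻¹ = x
  one : ∀ x ∈ N, B x b = 1 → t * x * t⁻¹ = x * (b * r)

/-- the union of the `D b` -/
def DU (Om : Set G) (D : G → Subgroup G) : Set G := {d | ∃ b ∈ Om, d ∈ D b}

/-- `Δ` -/
def Dl (F : Subgroup G) (Om : Set G) (D : G → Subgroup G) : Subgroup G := F ⊓ centralizer (DU Om D)

/-- the function `b ↦ f_b(x)`, extended to `N` -/
noncomputable def ps (r : G) (Om : Set G) (D : G → Subgroup G) (x y : G) : ZMod 2 :=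
  open Classical in if y ∈ Om then fb D y x else if y * r ∈ Om then fb D (y * r) x else 0

namespace Dat

variable {C N F : Subgroup G} {r : G} {Om : Set G} {B : G → G → ZMod 2} {D : G → Subgroup G}
  (h : Dat C N F r Om B D)

include h

theorem br_ne {b : G} (hb : b ∈ Om) : b * r ≠ 1 := fun e => (h.om_nr b hb).2 (by
  calc b = b * (r * r) := by rw [h.rr, mul_one]
    _ = r := by rw [← mul_assoc, e, one_mul])

theorem br_mem {b : G} (hb : b ∈ Om) : b * r ∈ N := mul_mem (h.om_mem b hb) h.r_mem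

/-- an element of `D b` moving `N` acts as the transvection -/
theorem mov_of {b d x : G} (hb : b ∈ Om) (hd : d ∈ D b) (hx : x ∈ N) (hne : d * x * d⁻¹ ≠ x) :
    Mov N r B D b d := by
  have hbN := h.om_mem b hb
  have hbr := h.br_mem hb
  have hF : ∀ y ∈ N, d * y * d⁻¹ = y ∨ d * y * d⁻¹ = y * (b * r) := fun y hy => h.D_F b hb d hd y (h.N_le hy)
  have hsq : b * r * (b * r) = 1 := h.sq _ hbr
  have hxm : d * x * d⁻¹ = x * (b * r) := (hF x hx).resolve_left hne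
  -- fixed elements are orthogonal to `b`
  have hfix : ∀ y ∈ N, d * y * d⁻¹ = y → B y b = 0 := by
    intro y hy hy1
    have h1 := h.B_conj d (h.D_le b hb hd) x hx y hy
    rw [hxm, hy1, h.B_mul x hx _ hbr y hy, h.B_mul b hbN r h.r_mem y hy, h.B_r' hy, add_zero] at h1
    have h2 : B x y + B b y = B x y + 0 := by rw [h1, add_zero]
    rw [h.symm y hy b hbN]
    exact add_left_cancel h2
  obtain ⟨y1, hy1, hB1⟩ := h.exists_B hbN (h.om_nr b hb).1 (h.om_nr b hb).2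
  have hm1 : d * y1 * d⁻¹ = y1 * (b * r) := (hF y1 hy1).resolve_left fun e => by
    rw [hfix y1 hy1 e] at hB1
    exact absurd hB1 (by decide)
  refine ⟨hd, fun y hy hB => ?_, fun y hy hB => (hF y hy).resolve_left fun e => ?_⟩
  · refine (hF y hy).resolve_right fun e => ?_
    have e1 : d * (y * y1) * d⁻¹ = y * y1 := by
      calc d * (y * y1) * d⁻¹ = d * y * d⁻¹ * (d * y1 * d⁻¹) := by group
        _ = y * (b * r) * (y1 * (b * r)) := by rw [e, hm1]
        _ = y * (b * r * (b * r)) * y1 := by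
          rw [h.comm y1 hy1 _ hbr]; group
        _ = y * y1 := by rw [hsq, mul_one]
    have h1 := hfix _ (mul_mem hy hy1) e1
    rw [h.B_mul y hy y1 hy1 b hbN, hB, hB1] at h1
    exact absurd h1 (by decide)
  · rw [hfix y hy e] at hB
    exact absurd hB (by decide)

theorem exists_mov {b : G} (hb : b ∈ Om) : ∃ t, Mov N r B D b t := by
  obtain ⟨d, hd, x, hx, hne⟩ := h.D_N b hb
  exact ⟨d, h.mov_of hb hd hx hne⟩

/-- all elements of `D b` act on `F` as `1` or as `t` -/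
theorem same {b t d : G} (hb : b ∈ Om) (ht : Mov N r B D b t) (hd : d ∈ D b) :
    (∀ x ∈ F, d * x * d⁻¹ = x) ∨ ∀ x ∈ F, d * x * d⁻¹ = t * x * t⁻¹ := by
  by_cases hc : ∀ x ∈ N, d * x * d⁻¹ = x
  · exact Or.inl (h.D_cen b hb d hd hc)
  right
  push Not at hc
  obtain ⟨x0, hx0, hne⟩ := hc
  have hm := h.mov_of hb hd hx0 hne
  have h1 : ∀ x ∈ N, t⁻¹ * d * x * (t⁻¹ * d)⁻¹ = x := by
    intro x hx
    have h2 : d * x * d⁻¹ = t * x * t⁻¹ := by
      rcases zt (B x b) with hB | hB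
      · rw [hm.zero x hx hB, ht.zero x hx hB]
      · rw [hm.one x hx hB, ht.one x hx hB]
    calc t⁻¹ * d * x * (t⁻¹ * d)⁻¹ = t⁻¹ * (d * x * d⁻¹) * t := by group
      _ = x := by rw [h2]; group
  intro x hx
  have h2 := h.D_cen b hb _ (mul_mem (inv_mem ht.mem) hd) h1 x hx
  calc d * x * d⁻¹ = t * (t⁻¹ * d * x * (t⁻¹ * d)⁻¹) * t⁻¹ := by group
    _ = t * x * t⁻¹ := by rw [h2]

theorem fb_or {b t x : G} (hb : b ∈ Om) (ht : Mov N r B D b t) (hx : x ∈ F) :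
    (fb D b x = 0 ∧ t * x * t⁻¹ = x) ∨ (fb D b x = 1 ∧ t * x * t⁻¹ = x * (b * r)) := by
  classical
  by_cases h1 : t * x * t⁻¹ = x
  · left
    refine ⟨if_pos fun d hd => ?_, h1⟩
    rcases h.same hb ht hd with h2 | h2
    · exact h2 x hx
    · rw [h2 x hx, h1]
  · right
    exact ⟨if_neg fun h2 => h1 (h2 t ht.mem), (h.D_F b hb t ht.mem x hx).resolve_left h1⟩

theorem fb_zero {b x : G} (hx : ∀ d ∈ D b, d * x * d⁻¹ = x) : fb D b x = 0 := if_pos hx

theorem fb_zero_iff {b x : G} : fb D b x = 0 ↔ ∀ d ∈ D b, d * x * d⁻¹ = x := by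
  classical
  constructor
  · intro h1
    by_contra h2
    rw [fb, if_neg h2] at h1
    exact absurd h1 (by decide)
  · exact fun h1 => if_pos h1

theorem fb_mul {b x y : G} (hb : b ∈ Om) (hx : x ∈ F) (hy : y ∈ F) : fb D b (x * y) = fb D b x + fb D b y := by
  obtain ⟨t, ht⟩ := h.exists_mov hb
  have hbr : b * r ∈ F := h.N_le (h.br_mem hb)
  have hne := h.br_ne hb
  have e : t * (x * y) * t⁻¹ = t * x * t⁻¹ * (t * y * t⁻¹) := by group
  have hsq : b * r * (b * r) = 1 := h.F_sq _ hbr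
  rcases h.fb_or hb ht hx with ⟨h1, h1'⟩ | ⟨h1, h1'⟩ <;> rcases h.fb_or hb ht hy with ⟨h2, h2'⟩ | ⟨h2, h2'⟩ <;>
    rcases h.fb_or hb ht (mul_mem hx hy) with ⟨h3, h3'⟩ | ⟨h3, h3'⟩ <;> rw [h1, h2, h3]
  · decide
  · exfalso
    rw [e, h1', h2'] at h3'
    exact hne (left_eq_mul.1 h3')
  · exfalso
    rw [e, h1', h2', ← mul_assoc] at h3'
    exact hne (mul_eq_left.1 h3')
  · decide
  · exfalso
    rw [e, h1', h2', mul_assoc, h.F_comm _ hbr y hy, ← mul_assoc] at h3'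
    exact hne (mul_eq_left.1 h3')
  · decide
  · decide
  · exfalso
    rw [e, h1', h2'] at h3'
    have e2 : x * (b * r) * (y * (b * r)) = x * y := by
      rw [h.F_comm y hy _ hbr]
      calc x * (b * r) * (b * r * y) = x * (b * r * (b * r)) * y := by group
        _ = x * y := by rw [hsq, mul_one]
    rw [e2] at h3'
    exact hne (left_eq_mul.1 h3')

theorem fb_N {b x : G} (hb : b ∈ Om) (hx : x ∈ N) : fb D b x = B x b := by
  obtain ⟨t, ht⟩ := h.exists_mov hb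
  have hne := h.br_ne hb
  rcases zt (B x b) with hB | hB
  · rcases h.fb_or hb ht (h.N_le hx) with ⟨h1, -⟩ | ⟨-, h1⟩
    · rw [h1, hB]
    · rw [ht.zero x hx hB] at h1
      exact absurd (left_eq_mul.1 h1) hne
  · rcases h.fb_or hb ht (h.N_le hx) with ⟨-, h1⟩ | ⟨h1, -⟩
    · rw [ht.one x hx hB] at h1
      exact absurd (mul_eq_left.1 h1) hne
    · rw [h1, hB]

theorem fb_conj {b x g : G} (hb : b ∈ Om) (hg : g ∈ C) : fb D (g * b * g⁻¹) (g * x * g⁻¹) = fb D b x := by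
  have key : ∀ b' ∈ Om, ∀ g' ∈ C, ∀ x', fb D b' x' = 0 → fb D (g' * b' * g'⁻¹) (g' * x' * g'⁻¹) = 0 := by
    intro b' hb' g' hg' x' h0
    rw [h.fb_zero_iff] at h0 ⊢
    intro d hd
    have h1 := h.D_conj _ (h.C_Om g' hg' b' hb') g'⁻¹ (inv_mem hg') d hd
    have e : g'⁻¹ * (g' * b' * g'⁻¹) * g'⁻¹⁻¹ = b' := by group
    rw [e] at h1
    have h2 := h0 _ h1
    calc d * (g' * x' * g'⁻¹) * d⁻¹
        = g' * (g'⁻¹ * d * g'⁻¹⁻¹ * x' * (g'⁻¹ * d * g'⁻¹⁻¹)⁻¹) * g'⁻¹ := by group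
      _ = g' * x' * g'⁻¹ := by rw [h2]
  rcases zt (fb D b x) with h1 | h1
  · rw [key b hb g hg x h1, h1]
  · rcases zt (fb D (g * b * g⁻¹) (g * x * g⁻¹)) with h2 | h2
    · have h3 := key _ (h.C_Om g hg b hb) g⁻¹ (inv_mem hg) _ h2
      have e : ∀ y : G, g⁻¹ * (g * y * g⁻¹) * g⁻¹⁻¹ = y := fun y => by group
      rw [e, e, h1] at h3
      exact absurd h3 (by decide)
    · rw [h1, h2]

/-- hyperbolic lines -/
theorem fb_hyp {b b' x : G} (hb : b ∈ Om) (hb' : b' ∈ Om) (hB : B b b' = 1) (hx : x ∈ F) :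
    fb D (b * b' * r) x = fb D b x + fb D b' x := by
  obtain ⟨t, ht⟩ := h.exists_mov hb'
  have hbN := h.om_mem b hb
  have hbN' := h.om_mem b' hb'
  have htC : t ∈ C := h.D_le b' hb' ht.mem
  have h1 : t * b * t⁻¹ = b * b' * r := by rw [ht.one b hbN hB, mul_assoc]
  have hom := h.om_hyp b hb b' hb' hB
  have h2 := h.fb_conj (x := x) hb htC
  rw [h1] at h2
  rcases h.fb_or hb' ht hx with ⟨h3, h4⟩ | ⟨h3, h4⟩
  · rw [h4] at h2
    rw [h2, h3, add_zero]
  · rw [h4, h.fb_mul hom hx (h.N_le (h.br_mem hb')), h.fb_N hom (h.br_mem hb'),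
      h.B_mul_r hbN' (h.om_mem _ hom), h.B_mul_r' hbN' (mul_mem hbN hbN'), h.B_mul' hbN hbN' hbN',
      h.B_self b' hbN', h.symm b' hbN' b hbN, hB, add_zero] at h2
    rw [h3, ← h2, add_assoc, zt_add_self, add_zero]

theorem ps_of {x y : G} (hy : y ∈ Om) : ps r Om D x y = fb D y x := if_pos hy

theorem ps_mul_r {x y : G} (_ : y ∈ N) : ps r Om D x (y * r) = ps r Om D x y := by
  classical
  have e : y * r * r = y := by rw [mul_assoc, h.rr, mul_one]
  unfold ps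
  rw [e]
  by_cases h1 : y ∈ Om
  · by_cases h2 : y * r ∈ Om
    · have hr := h.om_uni y h1 h2
      rw [hr, mul_one, if_pos h1]
    · rw [if_neg h2, if_pos h1]
      simp [h1]
  · by_cases h2 : y * r ∈ Om
    · rw [if_pos h2, if_neg h1, if_pos h2]
    · rw [if_neg h2, if_neg h1, if_neg h1, if_neg h2]

theorem ps_one {x : G} : ps r Om D x 1 = 0 := by
  classical
  unfold ps
  rw [if_neg fun h1 => (h.om_nr 1 h1).1 rfl, one_mul, if_neg fun h1 => (h.om_nr r h1).2 rfl]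

theorem nr_of_B {x y : G} (hx : x ∈ N) (hy : y ∈ N) (hB : B x y = 1) : NR r x := by
  refine ⟨fun e => ?_, fun e => ?_⟩
  · rw [e, h.B_one hy] at hB
    exact absurd hB (by decide)
  · rw [e, h.B_r' hy] at hB
    exact absurd hB (by decide)

theorem ps_add {x y y' : G} (hx : x ∈ F) (hy : y ∈ N) (hy' : y' ∈ N) (hB : B y y' = 1) :
    ps r Om D x (y * y') = ps r Om D x y + ps r Om D x y' := by
  -- both in `Om`
  have key : ∀ a ∈ Om, ∀ b ∈ Om, B a b = 1 → ps r Om D x (a * b) = ps r Om D x a + ps r Om D x b := by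
    intro a ha b hb hab
    rw [← h.ps_mul_r (mul_mem (h.om_mem a ha) (h.om_mem b hb)), h.ps_of (h.om_hyp a ha b hb hab), h.ps_of ha,
      h.ps_of hb, h.fb_hyp ha hb hab hx]
  have key2 : ∀ a ∈ Om, ∀ b ∈ N, B a b = 1 → ps r Om D x (a * b) = ps r Om D x a + ps r Om D x b := by
    intro a ha b hb hab
    have haN := h.om_mem a ha
    rcases h.om_rep b hb (h.nr_of_B hb haN (by rw [h.symm b hb a haN, hab])) with h1 | h1
    · exact key a ha b h1 hab
    · rw [← h.ps_mul_r hb, ← h.ps_mul_r (mul_mem haN hb), mul_assoc]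
      exact key a ha _ h1 (by rw [h.B_mul_r' haN hb, hab])
  rcases h.om_rep y hy (h.nr_of_B hy hy' hB) with h1 | h1
  · exact key2 y h1 y' hy' hB
  · have e : y * y' * r = y * r * y' := by rw [mul_assoc, h.comm y' hy' r h.r_mem, ← mul_assoc]
    rw [← h.ps_mul_r hy, ← h.ps_mul_r (mul_mem hy hy'), e]
    exact key2 _ h1 y' hy' (by rw [h.B_mul_r hy hy', hB])

theorem ps_hyp {x : G} (hx : x ∈ F) : Hyp N r B (ps r Om D x) :=
  ⟨h.ps_one, fun _ hy => h.ps_mul_r hy, fun _ hy _ hy' hB => h.ps_add hx hy hy' hB⟩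

theorem ps_mul {x x' y : G} (hx : x ∈ F) (hx' : x' ∈ F) :
    ps r Om D (x * x') y = ps r Om D x y + ps r Om D x' y := by
  classical
  unfold ps
  by_cases h1 : y ∈ Om
  · rw [if_pos h1, if_pos h1, if_pos h1, h.fb_mul h1 hx hx']
  · by_cases h2 : y * r ∈ Om
    · rw [if_neg h1, if_pos h2, if_neg h1, if_pos h2, if_neg h1, if_pos h2, h.fb_mul h2 hx hx']
    · rw [if_neg h1, if_neg h2, if_neg h1, if_neg h2, if_neg h1, if_neg h2, add_zero]

theorem mem_Dl {x : G} : x ∈ Dl F Om D ↔ x ∈ F ∧ ∀ b ∈ Om, fb D b x = 0 := by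
  constructor
  · intro hx
    refine ⟨hx.1, fun b hb => h.fb_zero_iff.2 fun d hd => ?_⟩
    have h1 := mem_centralizer_iff.1 hx.2 d ⟨b, hb, hd⟩
    rw [h1]; group
  · rintro ⟨h1, h2⟩
    refine ⟨h1, mem_centralizer_iff.2 ?_⟩
    rintro d ⟨b, hb, hd⟩
    have h3 := h.fb_zero_iff.1 (h2 b hb) d hd
    calc d * x = d * x * d⁻¹ * d := by group
      _ = x * d := by rw [h3]

theorem mem_Dl_of_add [Finite N] {x : G} (hx : x ∈ F)
    (hadd : ∀ y ∈ N, ∀ y' ∈ N, ps r Om D x (y * y') = ps r Om D x y + ps r Om D x y') :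
    ∃ n ∈ N, x * n ∈ Dl F Om D := by
  have hr : ps r Om D x r = 0 := by
    have := h.ps_mul_r (x := x) (one_mem N)
    rwa [one_mul, h.ps_one] at this
  obtain ⟨n, hn, hψ⟩ := h.toFrm.dual _ hadd hr
  refine ⟨n, hn, h.mem_Dl.2 ⟨mul_mem hx (h.N_le hn), fun b hb => ?_⟩⟩
  rw [h.fb_mul hb hx (h.N_le hn), h.fb_N hb hn, ← h.ps_of hb, hψ b (h.om_mem b hb), zt_add_self]

/-- **(1)** `|F : N Δ| ≤ 2` -/
theorem exists_mul [Finite N] {x y : G} (hx : x ∈ F) (hy : y ∈ F) (hx' : ¬ ∃ n ∈ N, x * n ∈ Dl F Om D)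
    (hy' : ¬ ∃ n ∈ N, y * n ∈ Dl F Om D) : ∃ n ∈ N, x * y * n ∈ Dl F Om D := by
  have key : ∀ a ∈ F, (¬ ∃ n ∈ N, a * n ∈ Dl F Om D) → Cst N r B (ps r Om D a) 1 := by
    intro a ha hna
    obtain ⟨κ, hκ⟩ := h.const h.big (h.ps_hyp ha)
    rcases zt κ with h0 | h0
    · rw [h0] at hκ
      exact absurd (h.mem_Dl_of_add ha (h.add_of_cst (h.ps_hyp ha) hκ)) hna
    · rwa [h0] at hκ
  have h1 := key x hx hx'
  have h2 := key y hy hy'
  have h3 : Cst N r B (ps r Om D (x * y)) 0 := by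
    intro a ha b hb na nb nab hab
    have h4 := h1 a ha b hb na nb nab hab
    have h5 := h2 a ha b hb na nb nab hab
    rw [h.ps_mul hx hy, h.ps_mul hx hy, h.ps_mul hx hy]
    calc _ = (ps r Om D x a + ps r Om D x b + ps r Om D x (a * b)) +
          (ps r Om D y a + ps r Om D y b + ps r Om D y (a * b)) := by ring
      _ = 0 := by rw [h4, h5]; decide
  exact h.mem_Dl_of_add (mul_mem hx hy) (h.add_of_cst (h.ps_hyp (mul_mem hx hy)) h3)

/-- `N ∩ Δ = ⟨r⟩` -/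
theorem eq_of_mem {x : G} (hx : x ∈ N) (hd : x ∈ Dl F Om D) : x = 1 ∨ x = r := by
  have h1 : ∀ b ∈ Om, B x b = 0 := fun b hb => by rw [← h.fb_N hb hx]; exact (h.mem_Dl.1 hd).2 b hb
  apply h.rad x hx
  intro y hy
  by_cases hy1 : y = 1
  · rw [hy1, h.B_one' hx]
  by_cases hyr : y = r
  · rw [hyr, h.B_r x hx]
  rcases h.om_rep y hy ⟨hy1, hyr⟩ with h2 | h2
  · exact h1 y h2
  · rw [← h.B_mul_r' hx hy]
    exact h1 _ h2

theorem r_mem_Dl : r ∈ Dl F Om D := by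
  refine h.mem_Dl.2 ⟨h.N_le h.r_mem, fun b hb => ?_⟩
  rw [h.fb_N hb h.r_mem, h.B_r' (h.om_mem b hb)]

theorem Dl_le : Dl F Om D ≤ F := inf_le_left

theorem Dl_conj {g x : G} (hg : g ∈ C) (hx : x ∈ Dl F Om D) : g * x * g⁻¹ ∈ Dl F Om D := by
  rw [h.mem_Dl] at hx ⊢
  refine ⟨h.C_F g hg x hx.1, fun b hb => ?_⟩
  have h1 := h.fb_conj (x := x) (h.C_Om g⁻¹ (inv_mem hg) b hb) hg
  have e : g * (g⁻¹ * b * g⁻¹⁻¹) * g⁻¹ = b := by group
  rw [e, hx.2 _ (h.C_Om g⁻¹ (inv_mem hg) b hb)] at h1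
  exact h1

theorem DU_C {d : G} (hd : d ∈ closure (DU Om D)) : d ∈ C := by
  have : closure (DU Om D) ≤ C := by
    rw [closure_le]
    rintro d ⟨b, hb, hd⟩
    exact h.D_le b hb hd
  exact this hd

/-- `E` is transitive on `Om` -/
theorem exists_conj {b b' : G} (hb : b ∈ Om) (hb' : b' ∈ Om) :
    ∃ e ∈ closure (DU Om D), e * b * e⁻¹ = b' := by
  -- noncollinear
  have key : ∀ a ∈ Om, ∀ c ∈ Om, B a c = 1 → ∃ e ∈ closure (DU Om D), e * a * e⁻¹ = c := by
    intro a ha c hc hac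
    obtain ⟨t, ht⟩ := h.exists_mov ha
    obtain ⟨t', ht'⟩ := h.exists_mov hc
    have haN := h.om_mem a ha
    have hcN := h.om_mem c hc
    refine ⟨t * t', mul_mem (subset_closure ⟨a, ha, ht.mem⟩) (subset_closure ⟨c, hc, ht'.mem⟩), ?_⟩
    have e1 : t' * a * t'⁻¹ = a * c * r := by rw [ht'.one a haN hac, mul_assoc]
    have hacr : a * c * r ∈ N := mul_mem (mul_mem haN hcN) h.r_mem
    have e2 : B (a * c * r) a = 1 := by
      rw [h.B_mul_r (mul_mem haN hcN) haN, h.B_mul a haN c hcN a haN, h.B_self a haN, h.symm c hcN a haN, hac,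
        zero_add]
    calc t * t' * a * (t * t')⁻¹ = t * (t' * a * t'⁻¹) * t⁻¹ := by group
      _ = a * c * r * (a * r) := by rw [e1, ht.one _ hacr e2]
      _ = (a * a) * c * (r * r) := by
        rw [h.comm a haN r h.r_mem]
        calc a * c * r * (r * a) = a * (c * (r * r)) * a := by group
          _ = a * c * a := by rw [h.rr, mul_one]
          _ = a * (a * c) := by rw [mul_assoc, h.comm c hcN a haN]
          _ = a * a * c * (r * r) := by rw [h.rr, mul_one]; group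
      _ = c := by rw [h.sq a haN, h.rr, one_mul, mul_one]
  rcases zt (B b b') with hB | hB
  · by_cases e : b = b'
    · exact ⟨1, one_mem _, by rw [e]; group⟩
    have hbN := h.om_mem b hb
    have hbN' := h.om_mem b' hb'
    -- `w` with `B w b = B w b' = 1`
    have hex : ∃ w ∈ N, B w b = 1 ∧ B w b' = 1 := by
      by_contra hcon
      push Not at hcon
      obtain ⟨y, hy, hyb⟩ := h.exists_B hbN (h.om_nr b hb).1 (h.om_nr b hb).2
      obtain ⟨y', hy', hyb'⟩ := h.exists_B hbN' (h.om_nr b' hb').1 (h.om_nr b' hb').2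
      have h1 : B y b' = 0 := (zt _).resolve_right (hcon y hy hyb)
      have h2 : B y' b = 0 := (zt _).resolve_right fun h3 => hcon y' hy' h3 hyb'
      refine hcon (y * y') (mul_mem hy hy') ?_ ?_
      · rw [h.B_mul y hy y' hy' b hbN, hyb, h2, add_zero]
      · rw [h.B_mul y hy y' hy' b' hbN', hyb', h1, zero_add]
    obtain ⟨w, hw, hwb, hwb'⟩ := hex
    obtain ⟨w', hw', hwb1, hwb1'⟩ : ∃ w' ∈ Om, B w' b = 1 ∧ B w' b' = 1 := by
      rcases h.om_rep w hw (h.nr_of_B hw hbN hwb) with h1 | h1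
      · exact ⟨w, h1, hwb, hwb'⟩
      · exact ⟨w * r, h1, by rw [h.B_mul_r hw hbN, hwb], by rw [h.B_mul_r hw hbN', hwb']⟩
    obtain ⟨e1, he1, h1⟩ := key b hb w' hw' (by rw [h.symm b hbN w' (h.om_mem _ hw'), hwb1])
    obtain ⟨e2, he2, h2⟩ := key w' hw' b' hb' hwb1'
    refine ⟨e2 * e1, mul_mem he2 he1, ?_⟩
    calc e2 * e1 * b * (e2 * e1)⁻¹ = e2 * (e1 * b * e1⁻¹) * e2⁻¹ := by group
      _ = b' := by rw [h1, h2]
  · exact key b hb b' hb' hB

/-- `E` centralises `F / N` -/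
theorem conj_mem {e x : G} (he : e ∈ closure (DU Om D)) (hx : x ∈ F) : e * x * e⁻¹ * x⁻¹ ∈ N := by
  induction he using closure_induction generalizing x with
  | mem d hd =>
    obtain ⟨b, hb, hd⟩ := hd
    rcases h.D_F b hb d hd x hx with h1 | h1
    · rw [h1, mul_inv_cancel]; exact one_mem N
    · rw [h1, h.F_comm x hx _ (h.N_le (h.br_mem hb)), mul_inv_cancel_right]
      exact h.br_mem hb
  | one => simp
  | mul a b _ hb ih1 ih2 =>
    have h1 := ih2 hx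
    have h2 := ih1 (h.C_F b (h.DU_C hb) x hx)
    have e1 : a * b * x * (a * b)⁻¹ * x⁻¹ = a * (b * x * b⁻¹) * a⁻¹ * (b * x * b⁻¹)⁻¹ * (b * x * b⁻¹ * x⁻¹) := by
      group
    rw [e1]
    exact mul_mem h2 h1
  | inv a ha ih =>
    have h1 := ih (h.C_F a⁻¹ (inv_mem (h.DU_C ha)) x hx)
    have e1 : a⁻¹ * x * a⁻¹⁻¹ * x⁻¹ = (a * (a⁻¹ * x * a⁻¹⁻¹) * a⁻¹ * (a⁻¹ * x * a⁻¹⁻¹)⁻¹)⁻¹ := by group
    rw [e1]
    exact inv_mem h1

theorem conj_Dl {e x : G} (he : e ∈ closure (DU Om D)) (hx : x ∈ Dl F Om D) : e * x * e⁻¹ = x := by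
  have h1 : closure (DU Om D) ≤ centralizer {x} := by
    rw [closure_le]
    intro d hd
    rw [SetLike.mem_coe, mem_centralizer_singleton_iff]
    exact mem_centralizer_iff.1 hx.2 d hd
  have h2 := mem_centralizer_singleton_iff.1 (h1 he)
  rw [h2]; group

end Dat

/-- the subgroups `H b` (= the group generated by the lines on `a` in `N_b`) -/
structure HDat (C N F : Subgroup G) (r : G) (Om : Set G) (H : G → Subgroup G) : Prop where
  H_le : ∀ b ∈ Om, H b ≤ F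
  H_conj : ∀ b ∈ Om, ∀ g ∈ C, ∀ x ∈ H b, g * x * g⁻¹ ∈ H (g * b * g⁻¹)
  H_gen : F ≤ N ⊔ closure {x | ∃ b ∈ Om, x ∈ H b}
  H_inf : ∀ b ∈ Om, ∀ x ∈ H b, x ∈ N → x = 1 ∨ x = r ∨ x = b ∨ x = b * r
  H_two : ∀ b ∈ Om, ∀ K : Subgroup G, K ≤ H b →
    (∀ m ∈ C, m * b * m⁻¹ = b → ∀ x ∈ K, m * x * m⁻¹ ∈ K) → (∀ x ∈ H b, x ∈ N → x ∈ K) →
    (∀ x ∈ H b, ∀ y ∈ H b, x ∉ K → y ∉ K → x * y ∈ K) → H b ≤ K
  Om_ne : Om.Nonempty

namespace HDat

variable {C N F : Subgroup G} {r : G} {Om : Set G} {B : G → G → ZMod 2} {D H : G → Subgroup G}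
  (k : HDat C N F r Om H) (h : Dat C N F r Om B D)

include k h

/-- `F = N (H b)` for every `b` -/
theorem sup {b x : G} (hb : b ∈ Om) (hx : x ∈ F) : ∃ n ∈ N, ∃ y ∈ H b, x = n * y := by
  have hHF := k.H_le b hb
  -- the product is a subgroup
  let K : Subgroup G :=
    { carrier := {x | ∃ n ∈ N, ∃ y ∈ H b, x = n * y}
      one_mem' := ⟨1, one_mem N, 1, one_mem _, by simp⟩
      mul_mem' := by
        rintro _ _ ⟨n, hn, y, hy, rfl⟩ ⟨n', hn', y', hy', rfl⟩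
        refine ⟨n * n', mul_mem hn hn', y * y', mul_mem hy hy', ?_⟩
        calc n * y * (n' * y') = n * (y * n') * y' := by group
          _ = n * n' * (y * y') := by rw [h.F_comm y (hHF hy) n' (h.N_le hn')]; group
      inv_mem' := by
        rintro _ ⟨n, hn, y, hy, rfl⟩
        refine ⟨n⁻¹, inv_mem hn, y⁻¹, inv_mem hy, ?_⟩
        rw [h.F_comm n (h.N_le hn) y (hHF hy)]
        group }
  have hle : N ⊔ closure {x | ∃ b ∈ Om, x ∈ H b} ≤ K := by
    rw [sup_le_iff, closure_le]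
    refine ⟨fun n hn => ⟨n, hn, 1, one_mem _, by simp⟩, ?_⟩
    rintro x ⟨b', hb', hx'⟩
    obtain ⟨e, he, hc⟩ := h.exists_conj hb' hb
    have h1 := k.H_conj b' hb' e (h.DU_C he) x hx'
    rw [hc] at h1
    have h2 := h.conj_mem he (k.H_le b' hb' hx')
    refine ⟨(e * x * e⁻¹ * x⁻¹)⁻¹, inv_mem h2, e * x * e⁻¹, h1, ?_⟩
    have hxF := k.H_le b' hb' hx'
    rw [h.F_comm _ (h.N_le (inv_mem h2)) _ (hHF h1)]
    have h3 : e * x * e⁻¹ * (e * x * e⁻¹ * x⁻¹)⁻¹ = e * x * e⁻¹ * (x * (e * x * e⁻¹)⁻¹) := by group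
    rw [h3, h.F_comm x hxF _ (inv_mem (hHF h1)), ← mul_assoc, mul_inv_cancel, one_mul]
  exact hle (k.H_gen hx)

/-- **`F = N Δ`** -/
theorem rep [Finite N] {x : G} (hx : x ∈ F) : ∃ n ∈ N, x * n ∈ Dl F Om D := by
  obtain ⟨b, hb⟩ := k.Om_ne
  have hHF := k.H_le b hb
  -- `N Δ`
  let L : Subgroup G :=
    { carrier := {x | x ∈ F ∧ ∃ n ∈ N, x * n ∈ Dl F Om D}
      one_mem' := ⟨one_mem F, 1, one_mem N, by simp⟩
      mul_mem' := by
        rintro x y ⟨hx, n, hn, h1⟩ ⟨hy, n', hn', h2⟩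
        refine ⟨mul_mem hx hy, n * n', mul_mem hn hn', ?_⟩
        have e : x * y * (n * n') = x * n * (y * n') := by
          calc x * y * (n * n') = x * (y * n) * n' := by group
            _ = x * n * (y * n') := by rw [h.F_comm y hy n (h.N_le hn)]; group
        rw [e]
        exact mul_mem h1 h2
      inv_mem' := by
        rintro x ⟨hx, n, hn, h1⟩
        refine ⟨inv_mem hx, n⁻¹, inv_mem hn, ?_⟩
        have e : x⁻¹ * n⁻¹ = (x * n)⁻¹ := by rw [h.F_comm x hx n (h.N_le hn)]; group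
        rw [e]
        exact inv_mem h1 }
  have hL : ∀ x, x ∈ L ↔ x ∈ F ∧ ∃ n ∈ N, x * n ∈ Dl F Om D := fun x => Iff.rfl
  have h1 : H b ≤ H b ⊓ L := by
    refine k.H_two b hb (H b ⊓ L) inf_le_left ?_ ?_ ?_
    · rintro m hm hmb x ⟨hxH, hxF, n, hn, hxn⟩
      refine ⟨?_, h.C_F m hm x hxF, m * n * m⁻¹, h.C_N m hm n hn, ?_⟩
      · have := k.H_conj b hb m hm x hxH
        rwa [hmb] at this
      · have e : m * x * m⁻¹ * (m * n * m⁻¹) = m * (x * n) * m⁻¹ := by group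
        rw [e]
        exact h.Dl_conj hm hxn
    · intro x hxH hxN
      refine ⟨hxH, h.N_le hxN, x⁻¹, inv_mem hxN, ?_⟩
      rw [mul_inv_cancel]; exact one_mem _
    · intro x hx y hy hx' hy'
      refine ⟨mul_mem hx hy, mul_mem (hHF hx) (hHF hy), ?_⟩
      refine h.exists_mul (hHF hx) (hHF hy) (fun h2 => hx' ⟨hx, hHF hx, h2⟩) (fun h2 => hy' ⟨hy, hHF hy, h2⟩)
  obtain ⟨n, hn, y, hy, rfl⟩ := k.sup h hb hx
  have h2 := (h1 hy).2
  have h3 : n ∈ L := ⟨h.N_le hn, n⁻¹, inv_mem hn, by rw [mul_inv_cancel]; exact one_mem _⟩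
  exact (mul_mem h3 h2).2

/-- **`H b ≤ ⟨b⟩ Δ`** -/
theorem mem [Finite N] {b x : G} (hb : b ∈ Om) (hx : x ∈ H b) : x ∈ Dl F Om D ∨ x * b ∈ Dl F Om D := by
  have hxF := k.H_le b hb hx
  have hbN := h.om_mem b hb
  obtain ⟨n, hn, hxn⟩ := k.rep h hxF
  have h1 : ∀ u ∈ Om, B u b = 0 → u ≠ b → B n u = 0 := by
    intro u hu hub hne
    obtain ⟨t, ht⟩ := h.exists_mov hu
    have htC := h.D_le u hu ht.mem
    have htE : t ∈ closure (DU Om D) := subset_closure ⟨u, hu, ht.mem⟩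
    have htb : t * b * t⁻¹ = b := ht.zero b hbN (by rw [h.symm b hbN u (h.om_mem u hu), hub])
    have h2 := k.H_conj b hb t htC x hx
    rw [htb] at h2
    have h3 := h.conj_Dl htE hxn
    refine (zt _).resolve_right fun hnu => ?_
    have h4 := ht.one n hn hnu
    have h5 : t * x * t⁻¹ = x * (u * r) := by
      have e1 : t * (x * n) * t⁻¹ = t * x * t⁻¹ * (t * n * t⁻¹) := by group
      rw [e1, h4] at h3
      have hur := h.br_mem hu
      have e2 : n * (u * r) * (n * (u * r)) = 1 := h.sq _ (mul_mem hn hur)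
      calc t * x * t⁻¹ = t * x * t⁻¹ * (n * (u * r) * (n * (u * r))) := by rw [e2, mul_one]
        _ = t * x * t⁻¹ * (n * (u * r)) * (n * (u * r)) := by group
        _ = x * (n * n) * (u * r) := by rw [h3]; group
        _ = x * (u * r) := by rw [h.sq n hn, mul_one]
    have h6 : u * r ∈ H b := by
      have := mul_mem (inv_mem hx) h2
      rw [h5] at this
      simpa using this
    have hrr := h.rr
    have hcan : ∀ z : G, u * r = z → u = z * r := fun z hz => by rw [← hz, mul_assoc, hrr, mul_one]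
    rcases k.H_inf b hb _ h6 (h.br_mem hu) with h7 | h7 | h7 | h7
    · exact h.br_ne hu h7
    · exact (h.om_nr u hu).1 (by rw [hcan _ h7, hrr])
    · have h8 := hcan _ h7
      have hr1 := h.om_uni b hb (by rw [← h8]; exact hu)
      exact hne (by rw [h8, hr1, mul_one])
    · exact hne (mul_right_cancel h7)
  have h2 : ∀ y ∈ N, B y b = 0 → B y n = 0 := by
    -- `B n b = 0`
    have hnb : B n b = 0 := by
      obtain ⟨u, hu, hub, nu, nub⟩ := h.big b hbN (h.om_nr b hb)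
      have key : ∀ w ∈ Om, B w b = 0 → w ≠ b → B n b = 0 := by
        intro w hw hwb hne
        have h3 := h1 w hw hwb hne
        have hwN := h.om_mem w hw
        have h4 := h.om_line w hw b hb hwb hne
        have h5 : w * b ≠ b := fun e => (h.om_nr w hw).1 (mul_eq_right.1 e)
        have h6 := h1 _ h4 (by rw [h.B_mul w hwN b hbN b hbN, hwb, h.B_self b hbN, add_zero]) h5
        rw [h.B_mul' hwN hbN hn, h3, zero_add] at h6
        exact h6
      have hne := h.nr_mul_ne hbN nub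
      rcases h.om_rep u hu nu with h3 | h3
      · exact key u h3 hub hne.1
      · refine key _ h3 (by rw [h.B_mul_r hu hbN, hub]) fun e => hne.2 ?_
        rw [← e, mul_assoc, h.rr, mul_one]
    intro y hy hyb
    rw [h.symm y hy n hn]
    by_cases hy1 : y = 1
    · rw [hy1, h.B_one' hn]
    by_cases hyr : y = r
    · rw [hyr, h.B_r n hn]
    rcases h.om_rep y hy ⟨hy1, hyr⟩ with h3 | h3
    · by_cases e : y = b
      · rw [e, hnb]
      · exact h1 y h3 hyb e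
    · rw [← h.B_mul_r' hn hy]
      by_cases e : y * r = b
      · rw [e, hnb]
      · exact h1 _ h3 (by rw [h.B_mul_r hy hbN, hyb]) e
  have hrD := h.r_mem_Dl
  rcases h.eq_of_perp hbN hn h2 with e | e | e | e
  · left; rwa [e, mul_one] at hxn
  · left
    rw [e] at hxn
    have := mul_mem hxn (inv_mem hrD)
    rwa [mul_inv_cancel_right] at this
  · right; rwa [e] at hxn
  · right
    rw [e, ← mul_assoc] at hxn
    have := mul_mem hxn (inv_mem hrD)
    rwa [mul_inv_cancel_right] at this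

/-- **(R)** `Δ ≤ H b` -/
theorem Dl_le [Finite N] {b : G} (hb : b ∈ Om) (hrH : r ∈ H b) (hbH : b ∈ H b) : Dl F Om D ≤ H b := by
  intro x hx
  have hbF := h.N_le (h.om_mem b hb)
  obtain ⟨n, hn, y, hy, e⟩ := k.sup h hb (h.Dl_le hx)
  have hyF := k.H_le b hb hy
  have hn' : n = x * y⁻¹ := by rw [e]; group
  have hyy : y⁻¹ = y := inv_eq_of_mul_eq_one_left (h.F_sq y hyF)
  suffices n ∈ H b by rw [e]; exact mul_mem this hy
  rcases k.mem h hb hy with h1 | h1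
  · have h2 : n ∈ Dl F Om D := by rw [hn']; exact mul_mem hx (inv_mem h1)
    rcases h.eq_of_mem hn h2 with h3 | h3
    · rw [h3]; exact one_mem _
    · rw [h3]; exact hrH
  · have h2 : n * b ∈ Dl F Om D := by
      rw [hn', hyy, mul_assoc]; exact mul_mem hx h1
    have h4 : n = n * b * b := by rw [mul_assoc, h.sq b (h.om_mem b hb), mul_one]
    rcases h.eq_of_mem (mul_mem hn (h.om_mem b hb)) h2 with h3 | h3
    · rw [h4, h3, one_mul]; exact hbH
    · rw [h4, h3]; exact mul_mem hrH hbH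

/-- **(R)** `H b = ⟨b⟩ Δ` for every `b` -/
theorem mem_iff [Finite N] {b x : G} (hb : b ∈ Om) (hrH : r ∈ H b) (hbH : b ∈ H b) :
    x ∈ H b ↔ x ∈ Dl F Om D ∨ x * b ∈ Dl F Om D := by
  refine ⟨k.mem h hb, ?_⟩
  rintro (h1 | h1)
  · exact k.Dl_le h hb hrH hbH h1
  · have h2 := mul_mem (k.Dl_le h hb hrH hbH h1) (inv_mem hbH)
    rwa [mul_inv_cancel_right] at h2

/-- **(NR)** `H b = Δ` for every `b` -/
theorem eq [Finite N] {b : G} (hb : b ∈ Om) (hr : r = 1) (hH : ∀ x ∈ H b, x ∈ N → x = 1) : H b = Dl F Om D := by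
  have h0 : H b ≤ H b ⊓ Dl F Om D := by
    refine k.H_two b hb _ inf_le_left ?_ ?_ ?_
    · rintro m hm hmb x ⟨hxH, hxD⟩
      refine ⟨?_, h.Dl_conj hm hxD⟩
      have := k.H_conj b hb m hm x hxH
      rwa [hmb] at this
    · intro x hxH hxN
      rw [hH x hxH hxN]
      exact one_mem _
    · intro x hx y hy hx' hy'
      refine ⟨mul_mem hx hy, ?_⟩
      have h1 := (k.mem h hb hx).resolve_left fun h2 => hx' ⟨hx, h2⟩
      have h2 := (k.mem h hb hy).resolve_left fun h2 => hy' ⟨hy, h2⟩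
      have h3 := mul_mem h1 h2
      have hbF := h.N_le (h.om_mem b hb)
      have hyF := k.H_le b hb hy
      have e : x * b * (y * b) = x * y * (b * b) := by
        rw [h.F_comm y hyF b hbF]
        calc x * b * (b * y) = x * (b * b) * y := by group
          _ = x * y * (b * b) := by rw [h.F_sq b hbF]; group
      rwa [e, h.F_sq b hbF, mul_one] at h3
  refine le_antisymm (h0.trans inf_le_right) fun x hx => ?_
  obtain ⟨n, hn, y, hy, e⟩ := k.sup h hb (h.Dl_le hx)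
  have h1 := (h0 hy).2
  have h2 : n ∈ Dl F Om D := by
    have e2 : n = x * y⁻¹ := by rw [e]; group
    rw [e2]
    exact mul_mem hx (inv_mem h1)
  have h3 : n = 1 := by
    rcases h.eq_of_mem hn h2 with h4 | h4
    · exact h4
    · rw [h4, hr]
  rw [e, h3, one_mul]
  exact hy

end HDat

end Cfsg.Agent.Omega.OM.Delta
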